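import Cfsg.Agent.J2Type.A5Case
import Cfsg.Agent.J2Type.Order
import Cfsg.Agent.J3Type.CardOneClass
import Cfsg.Agent.J3Type.HasModelOf
import Cfsg.Agent.J3Type.Reduce
import Cfsg.Agent.S1619
import Cfsg.Agent.S1620
import Cfsg.Agent.J2.Centralizer
import Cfsg.Agent.KFacts.QMinus
import Cfsg.Agent.KFacts.OutQ
import Cfsg.Agent.StandardComponent.AltFinal

/-!
# The Hall–Janko group: data, fusion, automorphisms (helper341)

`Dat t u Q v ρ`: `t` is a 2-central involution with the signed permutation model of its centraliser `2^{1+4}_- : A₅`,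
`u` an involution of the other class commuting with `t`. `exists_dat`: such data exist for `Cfsg.Spor.J2`.

* `u_notMem`, `isConj_zv`, `isConj_outer`, `mem_Q_of_isConj`: the involutions of `Q` are the conjugates of `t` in `C(t)`,
  the involutions outside `Q` are conjugate to `u`.
* `gen`: a subgroup containing `C(t)` and an element `n` with `n t n⁻¹ ∈ Q \ {t}` is the whole group.
* `exists_n`: some `n` with `n t n⁻¹ = v 0`, `n (v 0) n⁻¹ = t (v 0)`.
* `cent_V`: `C(C(⟨t, v 0⟩)) ≤ ⟨t, v 0⟩`.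
* `inner_of_even`: an automorphism fixing `t` and inducing an even permutation on the five classes `{v i, t v i}` is
  inner.
* `isConj_aut`, `sq_inner`: automorphisms preserve the class of `t`; their squares are inner.
-/

set_option autoImplicit false

namespace Cfsg.Agent.KFacts.J2.Basic

open Subgroup Cfsg.Agent.J2Type.Model Cfsg.Agent.J2Type.SPFacts Cfsg.Agent.J2Type.CStruct
open Cfsg.Agent.J3Type.OneClass Cfsg.Agent.J2Type.Base
open scoped commutatorElement

/-- Data of a group of Hall–Janko type. -/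
structure Dat {X : Type*} [Group X] (t u : X) (Q : Subgroup (centralizer ({t} : Set X)))
    (v : Fin 5 → centralizer ({t} : Set X)) (ρ : centralizer ({t} : Set X) →* SP) : Prop where
  F : Fus t u
  M : IsModel Q (zc t) v ρ

theorem mem_cent {X : Type*} [Group X] {t c : X} : c ∈ centralizer ({t} : Set X) ↔ c * t = t * c :=
  mem_centralizer_singleton_iff

section basics

variable {X : Type*} [Group X] {t u : X} {Q : Subgroup (centralizer ({t} : Set X))}
  {v : Fin 5 → centralizer ({t} : Set X)} {ρ : centralizer ({t} : Set X) →* SP}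

theorem Dat.tt (D : Dat t u Q v ρ) : t * t = 1 := congrArg Subtype.val D.M.z_sq

theorem Dat.t_ne (D : Dat t u Q v ρ) : t ≠ 1 := fun h => D.M.z_ne (Subtype.ext h)

theorem Dat.uu (D : Dat t u Q v ρ) : u * u = 1 := by rw [← pow_two, ← D.F.hu, pow_orderOf_eq_one]

theorem Dat.u_ne (D : Dat t u Q v ρ) : u ≠ 1 := by
  intro h
  have := D.F.hu
  rw [h, orderOf_one] at this
  omega

theorem Dat.u_mem (D : Dat t u Q v ρ) : u ∈ centralizer ({t} : Set X) := mem_cent.2 D.F.comm.symm

theorem Dat.vt (_ : Dat t u Q v ρ) (i : Fin 5) : (v i : X) * t = t * v i := mem_cent.1 (v i).2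

theorem Dat.vv (D : Dat t u Q v ρ) (i : Fin 5) : (v i : X) * v i = 1 := congrArg Subtype.val (D.M.v_sq i)

theorem Dat.v_anti (D : Dat t u Q v ρ) {i j : Fin 5} (h : i ≠ j) : (v i : X) * v j = t * (v j * v i) :=
  congrArg Subtype.val (D.M.v_anti i j h)

theorem Dat.v_ne (D : Dat t u Q v ρ) (i : Fin 5) : (v i : X) ≠ 1 := by
  intro h
  apply v_ne_one D.M i 0
  rw [zp_zero, one_mul]
  exact Subtype.ext h

theorem Dat.v_ne_t (D : Dat t u Q v ρ) (i : Fin 5) : (v i : X) ≠ t := by
  intro h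
  apply zv_ne_z D.M 0 i
  rw [zp_zero, one_mul]
  exact Subtype.ext h

/-- `v j v k` commutes with `v i`, `i ≠ j, k`. -/
theorem vv_comm {C : Type*} [Group C] {Q : Subgroup C} {z : C} {v : Fin 5 → C} {ρ : C →* SP}
    (M : IsModel Q z v ρ) {i j k : Fin 5} (hij : j ≠ i) (hik : k ≠ i) : v j * v k * v i = v i * (v j * v k) := by
  have e1 : v k * v i = z * (v i * v k) := M.v_anti k i hik
  have e2 : v j * v i = z * (v i * v j) := M.v_anti j i hij
  calc v j * v k * v i = v j * (v k * v i) := by group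
    _ = (v j * z) * v i * v k := by rw [e1]; group
    _ = (z * v j) * v i * v k := by rw [M.z_comm]
    _ = z * (v j * v i) * v k := by group
    _ = (z * z) * (v i * v j) * v k := by rw [e2]; group
    _ = v i * (v j * v k) := by rw [M.z_sq]; group

theorem exists_two (i : Fin 5) : ∃ j k : Fin 5, j ≠ k ∧ j ≠ i ∧ k ≠ i := by
  revert i; decide

theorem Dat.u_notMem (D : Dat t u Q v ρ) : (⟨u, D.u_mem⟩ : centralizer ({t} : Set X)) ∉ Q := by
  intro h
  rcases invol_Q D.M h (Subtype.ext D.uu) (fun h' => D.u_ne (congrArg Subtype.val h')) with h1 | ⟨a, i, h1⟩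
  · have h2 : u = t := congrArg Subtype.val h1
    apply D.F.nconj
    rw [h2]
  · obtain ⟨j, k, hjk, hji, hki⟩ := exists_two i
    have h2 : (v j * v k) * (⟨u, D.u_mem⟩ : centralizer ({t} : Set X)) = ⟨u, D.u_mem⟩ * (v j * v k) := by
      rw [h1]
      have := (comm_zp_mul D.M a (v i) (v j * v k)).2 (vv_comm D.M hji hki).symm
      exact this.symm
    have h3 := D.F.sqE ((v j * v k : centralizer ({t} : Set X)) : X) (mem_cent.1 (v j * v k).2)
      (congrArg Subtype.val h2)
    have h4 := congrArg Subtype.val (vv_sq D.M hjk)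
    apply D.t_ne
    exact h4.symm.trans h3

theorem Dat.orderOf_t (D : Dat t u Q v ρ) : orderOf t = 2 := D.F.hz

theorem orderOf_two {x : X} (hx : x * x = 1) (h1 : x ≠ 1) : orderOf x = 2 :=
  orderOf_eq_prime (by rw [pow_two, hx]) h1

theorem Dat.isConj_outer (D : Dat t u Q v ρ) {x : centralizer ({t} : Set X)} (hx : x * x = 1) (hxQ : x ∉ Q) :
    IsConj u (x : X) := by
  obtain ⟨k, hk⟩ := outer_conj D.M (x := ⟨u, D.u_mem⟩) (Subtype.ext D.uu) D.u_notMem hx hxQ
  exact isConj_iff.2 ⟨k, congrArg Subtype.val hk⟩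

theorem Dat.mem_Q_of_isConj (D : Dat t u Q v ρ) {x : centralizer ({t} : Set X)} (h : IsConj t (x : X)) :
    x ∈ Q := by
  by_contra hxQ
  obtain ⟨g, hg⟩ := isConj_iff.1 h
  have hx : x * x = 1 := by
    apply Subtype.ext
    show (x : X) * x = 1
    rw [← hg]
    calc g * t * g⁻¹ * (g * t * g⁻¹) = g * (t * t) * g⁻¹ := by group
      _ = 1 := by rw [D.tt]; group
  exact D.F.nconj (h.trans (D.isConj_outer hx hxQ).symm)

theorem Dat.isConj_zv (D : Dat t u Q v ρ) (a : ZMod 2) (i : Fin 5) :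
    IsConj t ((zp (zc t) a * v i : centralizer ({t} : Set X)) : X) := by
  set x : centralizer ({t} : Set X) := zp (zc t) a * v i with hx
  have hxx : x * x = 1 := zv_sq D.M a i
  have hx1 : x ≠ 1 := v_ne_one D.M i a
  have h2 : orderOf (x : X) = 2 :=
    orderOf_two (congrArg Subtype.val hxx) (fun h => hx1 (Subtype.ext h))
  rcases D.F.cover _ h2 with h | h
  · exact h
  · exfalso
    obtain ⟨g, hg1, hg2⟩ := D.F.pair t (x : X) (IsConj.refl t) h (mem_cent.1 x.2).symm
    have hgt : g * t = t * g := mul_inv_eq_iff_eq_mul.1 hg1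
    apply D.u_notMem
    have hn := normal_Q D.M
    have h3 : (⟨u, D.u_mem⟩ : centralizer ({t} : Set X)) =
        (⟨g, mem_cent.2 hgt⟩ : centralizer ({t} : Set X))⁻¹ * x * (⟨g, mem_cent.2 hgt⟩)⁻¹⁻¹ := by
      apply Subtype.ext
      show u = g⁻¹ * (x : X) * g⁻¹⁻¹
      rw [← hg2]; group
    rw [h3]
    exact hn.conj_mem x (zv_mem D.M a i) _

theorem Dat.isConj_v (D : Dat t u Q v ρ) (i : Fin 5) : IsConj t (v i : X) := by
  have := D.isConj_zv 0 i
  rwa [zp_zero, one_mul] at this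

/-- an involution of `Q` is conjugate to `t` -/
theorem Dat.isConj_of_mem_Q (D : Dat t u Q v ρ) {x : centralizer ({t} : Set X)} (hx : x ∈ Q) (hxx : x * x = 1)
    (hx1 : x ≠ 1) : IsConj t (x : X) := by
  rcases invol_Q D.M hx hxx hx1 with h | ⟨a, i, h⟩
  · rw [h]
  · rw [h]; exact D.isConj_zv a i

/-! ### Orders -/

theorem Dat.cardC (D : Dat t u Q v ρ) : Nat.card (centralizer ({t} : Set X)) = 1920 := D.F.cardC

theorem Dat.card [Finite X] (D : Dat t u Q v ρ) : Nat.card X = 604800 := Cfsg.Agent.J2Type.Order.card_of_fus D.F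

theorem Dat.card_cent_u [Finite X] (D : Dat t u Q v ρ) : Nat.card (centralizer ({u} : Set X)) = 240 :=
  Cfsg.Agent.J2Type.Order.card_centralizer_u D.F

theorem Dat.index [Finite X] (D : Dat t u Q v ρ) : (centralizer ({t} : Set X)).index = 315 := by
  have h1 := (centralizer ({t} : Set X)).card_mul_index
  rw [D.cardC, D.card] at h1
  omega

theorem Dat.cardQ (D : Dat t u Q v ρ) : Nat.card Q = 32 := by
  have := Cfsg.Agent.KFacts.QMinus.card_mul D.M
  rw [D.cardC] at this
  omega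

theorem Dat.perfect (D : Dat t u Q v ρ) : commutator (centralizer ({t} : Set X)) = ⊤ :=
  Cfsg.Agent.KFacts.QMinus.perfect D.M


/-! ### Generation -/

/-- `C(t)` as the centraliser of `t` in a subgroup `N ≥ C(t)`. -/
def centEquiv {N : Subgroup X} (hN : centralizer ({t} : Set X) ≤ N) (htN : t ∈ N) :
    centralizer ({t} : Set X) ≃* centralizer ({(⟨t, htN⟩ : N)} : Set N) where
  toFun c := ⟨⟨c, hN c.2⟩, mem_cent.2 (Subtype.ext (mem_cent.1 c.2))⟩
  invFun c := ⟨(c : N), mem_cent.2 (congrArg Subtype.val (mem_cent.1 c.2))⟩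
  left_inv _ := rfl
  right_inv _ := rfl
  map_mul' _ _ := rfl

/-- A subgroup containing `C(t)` and an element `n` with `n t n⁻¹ ∈ Q \ {t}` is the whole group. -/
theorem Dat.gen [Finite X] (D : Dat t u Q v ρ) {N : Subgroup X} (hN : centralizer ({t} : Set X) ≤ N) {n : X}
    (hn : n ∈ N) (q : centralizer ({t} : Set X)) (hq : q ∈ Q) (hnq : n * t * n⁻¹ = q) (hne : n * t * n⁻¹ ≠ t) :
    N = ⊤ := by
  have htN : t ∈ N := hN (mem_cent.2 rfl)
  let e := centEquiv hN htN
  have M' := transport e D.M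
  have hz : e (zc t) = zc (⟨t, htN⟩ : N) := rfl
  rw [hz] at M'
  have hc : Nat.card (centralizer ({(⟨t, htN⟩ : N)} : Set N)) = 1920 := by
    rw [← Nat.card_congr e.toEquiv]; exact D.cardC
  have hnor := normal_Q M'
  have hQ32 : Nat.card (Q.map e.toMonoidHom) = 32 := by
    have := Cfsg.Agent.KFacts.QMinus.card_mul M'
    rw [hc] at this
    omega
  have h60 : Nat.card (centralizer ({(⟨t, htN⟩ : N)} : Set N) ⧸ Q.map e.toMonoidHom) = 60 := by
    have := card_eq_card_quotient_mul_card_subgroup (Q.map e.toMonoidHom)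
    rw [hc, hQ32] at this
    omega
  obtain ⟨u', Fu'⟩ := Cfsg.Agent.J2Type.Fusion.fus_core (⟨t, htN⟩ : N)
    (orderOf_two (Subtype.ext D.tt) (fun h => D.t_ne (congrArg Subtype.val h))) (Q.map e.toMonoidHom)
    (Cfsg.Agent.KFacts.QMinus.extraspecial M') hQ32 (by
      intro c hcQ
      rcases Cfsg.Agent.KFacts.QMinus.cent_Q M' (c := c) (fun i => by
        exact ((mem_centralizer_iff.1 hcQ) _ (M'.v_mem i)).symm) with h | h
      · rw [h]; exact one_mem _
      · rw [h]; exact M'.z_mem) h60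
    ⟨⟨n, hn⟩, ⟨mem_cent.2 (Subtype.ext (by
        show n * t * n⁻¹ * t = t * (n * t * n⁻¹)
        rw [hnq]; exact mem_cent.1 q.2)), ⟨q, hq, by
          apply Subtype.ext
          apply Subtype.ext
          show (q : X) = n * t * n⁻¹
          exact hnq.symm⟩⟩, fun h => hne (congrArg Subtype.val h)⟩
    ⟨⟨t, htN⟩, ⟨u, hN D.u_mem⟩, orderOf_two (Subtype.ext D.tt) (fun h => D.t_ne (congrArg Subtype.val h)),
      orderOf_two (Subtype.ext D.uu) (fun h => D.u_ne (congrArg Subtype.val h)), fun h => by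
        obtain ⟨g, hg⟩ := isConj_iff.1 h
        exact D.F.nconj (isConj_iff.2 ⟨g, congrArg Subtype.val hg⟩)⟩
  have h1 : Nat.card N = Nat.card X := by
    rw [Cfsg.Agent.J2Type.Order.card_of_fus Fu', D.card]
  exact eq_top_of_card_eq N h1

/-! ### The normaliser of the four-group `⟨t, v 0⟩` -/

theorem Dat.exists_n (D : Dat t u Q v ρ) : ∃ n : X, n * t * n⁻¹ = v 0 ∧ n * v 0 * n⁻¹ = t * v 0 := by
  obtain ⟨g, hg⟩ := isConj_iff.1 (D.isConj_v 0)
  have htv : t * v 0 = ((zp (zc t) 1 * v 0 : centralizer ({t} : Set X)) : X) := by rw [zp_one]; rfl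
  have hc : (v 0 : X) * (t * v 0) = (t * v 0) * v 0 := by
    calc (v 0 : X) * (t * v 0) = (v 0 * t) * v 0 := by group
      _ = (t * v 0) * v 0 := by rw [D.vt]
  -- `x = g⁻¹ (t v 0) g`
  have hxc : (g⁻¹ * (t * v 0) * g) * t = t * (g⁻¹ * (t * v 0) * g) := by
    have ht : t = g⁻¹ * v 0 * g := by rw [← hg]; group
    calc (g⁻¹ * (t * v 0) * g) * t = (g⁻¹ * (t * v 0) * g) * (g⁻¹ * v 0 * g) := by rw [← ht]
      _ = g⁻¹ * ((t * v 0) * v 0) * g := by group
      _ = g⁻¹ * (v 0 * (t * v 0)) * g := by rw [hc]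
      _ = (g⁻¹ * v 0 * g) * (g⁻¹ * (t * v 0) * g) := by group
      _ = t * (g⁻¹ * (t * v 0) * g) := by rw [← ht]
  have hxconj : IsConj t (g⁻¹ * (t * v 0) * g) := by
    have h1 := D.isConj_zv 1 0
    rw [← htv] at h1
    exact h1.trans (isConj_iff.2 ⟨g⁻¹, by rw [inv_inv]⟩)
  set x : centralizer ({t} : Set X) := ⟨g⁻¹ * (t * v 0) * g, mem_cent.2 hxc⟩ with hx
  have hxQ : x ∈ Q := D.mem_Q_of_isConj hxconj
  have hxne : (x : X) ≠ t := by
    intro h
    have h1 : t * (v 0 : X) = v 0 := by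
      calc t * (v 0 : X) = g * (g⁻¹ * (t * v 0) * g) * g⁻¹ := by group
        _ = g * t * g⁻¹ := by rw [show g⁻¹ * (t * v 0) * g = t from h]
        _ = v 0 := hg
    exact D.t_ne (mul_eq_right.1 h1)
  have hxx : x * x = 1 := by
    apply Subtype.ext
    show (g⁻¹ * (t * v 0) * g) * (g⁻¹ * (t * v 0) * g) = 1
    calc (g⁻¹ * (t * v 0) * g) * (g⁻¹ * (t * v 0) * g) = g⁻¹ * (t * (v 0 * (t * v 0))) * g := by group
      _ = g⁻¹ * (t * ((t * v 0) * v 0)) * g := by rw [hc]
      _ = g⁻¹ * ((t * t) * (v 0 * v 0)) * g := by group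
      _ = 1 := by rw [D.tt, D.vv]; group
  have hx1 : x ≠ 1 := by
    intro h
    have h1 : IsConj t (1 : X) := by
      have h2 : (x : X) = 1 := congrArg Subtype.val h
      rw [← h2]; exact hxconj
    obtain ⟨k, hk⟩ := isConj_iff.1 h1
    apply D.t_ne
    calc t = k⁻¹ * (k * t * k⁻¹) * k := by group
      _ = 1 := by rw [hk]; group
  rcases invol_Q D.M hxQ hxx hx1 with h | ⟨a, i, h⟩
  · exact absurd (congrArg Subtype.val h) hxne
  · obtain ⟨c, hc'⟩ := trans_v D.M 0 a 0 i
    rw [zp_zero, one_mul, ← h] at hc'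
    have hc1 : (c : X) * v 0 * (c : X)⁻¹ = x := congrArg Subtype.val hc'
    have hct : (c : X) * t = t * c := mem_cent.1 c.2
    refine ⟨g * c, ?_, ?_⟩
    · calc g * c * t * (g * c)⁻¹ = g * (c * t) * (c : X)⁻¹ * g⁻¹ := by group
        _ = g * (t * c) * (c : X)⁻¹ * g⁻¹ := by rw [hct]
        _ = g * t * g⁻¹ := by group
        _ = v 0 := hg
    · calc g * c * v 0 * (g * c)⁻¹ = g * (c * v 0 * (c : X)⁻¹) * g⁻¹ := by group
        _ = g * x * g⁻¹ := by rw [hc1]
        _ = g * (g⁻¹ * (t * v 0) * g) * g⁻¹ := rfl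
        _ = t * v 0 := by group

/-- `rr (σ i) (σ j) = rr i j` for the pairs outside `0` forces `σ = 1`. -/
theorem perm_eq_one : ∀ σ : Equiv.Perm (Fin 5), σ 0 = 0 →
    (∀ i j : Fin 5, i ≠ 0 → j ≠ 0 → i ≠ j → rr (σ i) (σ j) = rr i j) → σ = 1 := by
  decide +kernel

/-- conjugation of `v i v j` -/
theorem conj_vv {C : Type*} [Group C] {Q : Subgroup C} {z : C} {v : Fin 5 → C} {ρ : C →* SP}
    (M : IsModel Q z v ρ) (c : C) (i j : Fin 5) : c * (v i * v j) * c⁻¹ =
      zp z ((ρ c).s i + (ρ c).s j) * (v ((ρ c).σ i) * v ((ρ c).σ j)) := by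
  calc c * (v i * v j) * c⁻¹ = (c * v i * c⁻¹) * (c * v j * c⁻¹) := by group
    _ = (zp z ((ρ c).s i) * v ((ρ c).σ i)) * (zp z ((ρ c).s j) * v ((ρ c).σ j)) := by rw [M.conj, M.conj]
    _ = zp z ((ρ c).s i) * (v ((ρ c).σ i) * zp z ((ρ c).s j)) * v ((ρ c).σ j) := by group
    _ = zp z ((ρ c).s i) * (zp z ((ρ c).s j) * v ((ρ c).σ i)) * v ((ρ c).σ j) := by rw [zp_comm' M]
    _ = _ := by rw [zp_add z M.z_sq]; group

/-- An element of `C(t)` commuting with `v 0` and with all `v i v j`, `i, j ≠ 0`, is in `⟨t, v 0⟩`. -/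
theorem cent_aux {C : Type*} [Group C] {Q : Subgroup C} {z : C} {v : Fin 5 → C} {ρ : C →* SP}
    (M : IsModel Q z v ρ) {c : C} (h0 : c * v 0 = v 0 * c)
    (h : ∀ i j : Fin 5, i ≠ 0 → j ≠ 0 → c * (v i * v j) = v i * v j * c) :
    c = 1 ∨ c = z ∨ c = v 0 ∨ c = z * v 0 := by
  have e0 : (ρ c).s 0 = 0 ∧ (ρ c).σ 0 = 0 := by
    have h1 := M.conj c 0
    rw [h0, mul_inv_cancel_right] at h1
    have h2 := M.v_inj 0 ((ρ c).s 0) 0 ((ρ c).σ 0) (by rw [zp_zero, one_mul]; exact h1)
    exact ⟨h2.1.symm, h2.2.symm⟩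
  have e1 : ∀ i j : Fin 5, i ≠ 0 → j ≠ 0 →
      zp z ((ρ c).s i + (ρ c).s j) * (v ((ρ c).σ i) * v ((ρ c).σ j)) = v i * v j := by
    intro i j hi hj
    rw [← conj_vv M, h i j hi hj, mul_inv_cancel_right]
  have hσ : (ρ c).σ = 1 := by
    apply perm_eq_one _ e0.2
    intro i j hi hj hij
    have h1 := congrArg ρ (e1 i j hi hj)
    rw [map_mul ρ (zp z _), rho_zp M, one_mul, rho_vv M, rho_vv M] at h1
    exact congrArg SP.s h1
  have es : ∀ i j : Fin 5, i ≠ 0 → j ≠ 0 → (ρ c).s i + (ρ c).s j = 0 := by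
    intro i j hi hj
    have h1 := e1 i j hi hj
    rw [hσ, Equiv.Perm.one_apply, Equiv.Perm.one_apply] at h1
    apply zp_inj M
    rw [zp_zero]
    exact mul_eq_right.1 h1
  have key : ∀ s : Fin 5 → ZMod 2, s 0 = 0 → (∀ i j : Fin 5, i ≠ 0 → j ≠ 0 → s i + s j = 0) →
      s = (fun _ => 0) ∨ s = fun j => if j = 0 then 0 else 1 := by
    decide +kernel
  rcases key _ e0.1 es with h1 | h1
  · have h2 : ρ c = ρ 1 := by
      rw [map_one]
      exact SP.ext hσ h1
    obtain ⟨a, ha⟩ := eq_of_rho_eq M h2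
    rw [mul_one] at ha
    rcases zmod2_cases a with rfl | rfl
    · left; rw [ha, zp_zero]
    · right; left; rw [ha, zp_one]
  · have h2 : ρ c = ρ (v 0) := by
      rw [rho_v M]
      exact SP.ext hσ h1
    obtain ⟨a, ha⟩ := eq_of_rho_eq M h2
    rcases zmod2_cases a with rfl | rfl
    · right; right; left; rw [ha, zp_zero, one_mul]
    · right; right; right; rw [ha, zp_one]

/-- `C(C(⟨t, v 0⟩)) ≤ ⟨t, v 0⟩` -/
theorem Dat.cent_V (D : Dat t u Q v ρ) (s : X) (h : ∀ c : X, c * t = t * c → c * v 0 = v 0 * c → s * c = c * s) :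
    s = 1 ∨ s = t ∨ s = v 0 ∨ s = t * v 0 := by
  have hst : s * t = t * s := h t rfl (D.vt 0).symm
  have hs0 : s * v 0 = v 0 * s := h (v 0) (D.vt 0) rfl
  rcases cent_aux D.M (c := ⟨s, mem_cent.2 hst⟩) (Subtype.ext hs0) (fun i j hi hj => by
    apply Subtype.ext
    show s * ((v i : X) * v j) = (v i : X) * v j * s
    exact h _ (mem_cent.1 (v i * v j).2) (congrArg Subtype.val (vv_comm D.M hi hj))) with h | h | h | h
  · exact Or.inl (congrArg Subtype.val h)
  · exact Or.inr (Or.inl (congrArg Subtype.val h))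
  · exact Or.inr (Or.inr (Or.inl (congrArg Subtype.val h)))
  · exact Or.inr (Or.inr (Or.inr (congrArg Subtype.val h)))

/-! ### Automorphisms -/

theorem isConj_map (α : MulAut X) {x y : X} (h : IsConj x y) : IsConj (α x) (α y) := by
  obtain ⟨g, hg⟩ := isConj_iff.1 h
  exact isConj_iff.2 ⟨α g, by rw [← map_mul, ← map_inv, ← map_mul, hg]⟩

theorem card_cent_map [Finite X] (α : MulAut X) (x : X) :
    Nat.card (centralizer ({α x} : Set X)) = Nat.card (centralizer ({x} : Set X)) := by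
  refine (Nat.card_congr (α.toEquiv.subtypeEquiv ?_)).symm
  intro y
  show y ∈ centralizer ({x} : Set X) ↔ α y ∈ centralizer ({α x} : Set X)
  rw [mem_cent, mem_cent, ← map_mul, ← map_mul, α.injective.eq_iff]

theorem card_cent_isConj [Finite X] {x y : X} (h : IsConj x y) :
    Nat.card (centralizer ({x} : Set X)) = Nat.card (centralizer ({y} : Set X)) := by
  obtain ⟨g, hg⟩ := isConj_iff.1 h
  rw [← hg, ← MulAut.conj_apply, card_cent_map]

/-- automorphisms preserve the class of `t` -/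
theorem Dat.isConj_aut [Finite X] (D : Dat t u Q v ρ) (α : MulAut X) : IsConj t (α t) := by
  have h2 : orderOf (α t) = 2 := by rw [← D.orderOf_t]; exact orderOf_injective α.toMonoidHom α.injective t
  rcases D.F.cover _ h2 with h | h
  · exact h
  · exfalso
    have h1 := card_cent_isConj h
    rw [card_cent_map, D.cardC, D.card_cent_u] at h1
    omega

/-- an automorphism fixing `t` as a signed permutation of the `v i` -/
theorem Dat.exists_act [Finite X] (D : Dat t u Q v ρ) (α : MulAut X) (hα : α t = t) :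
    ∃ (σ : Equiv.Perm (Fin 5)) (s : Fin 5 → ZMod 2), ∀ i, α (v i) = ((zp (zc t) (s i) * v (σ i) :
      centralizer ({t} : Set X)) : X) := by
  have h1 : ∀ i, ∃ (a : ZMod 2) (j : Fin 5), α (v i) = ((zp (zc t) a * v j : centralizer ({t} : Set X)) : X) := by
    intro i
    have hc : α (v i) * t = t * α (v i) := by
      have := congrArg α (D.vt i)
      rwa [map_mul, map_mul, hα] at this
    have hconj : IsConj t (α (v i)) := by
      have := isConj_map α (D.isConj_v i)
      rwa [hα] at this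
    have hQ := D.mem_Q_of_isConj (x := ⟨α (v i), mem_cent.2 hc⟩) hconj
    have hxx : (⟨α (v i), mem_cent.2 hc⟩ : centralizer ({t} : Set X)) * ⟨α (v i), mem_cent.2 hc⟩ = 1 := by
      apply Subtype.ext
      show α (v i) * α (v i) = 1
      rw [← map_mul, D.vv, map_one]
    rcases invol_Q D.M hQ hxx (fun h => by
      have h' : α (v i) = 1 := congrArg Subtype.val h
      rw [← map_one α] at h'
      exact D.v_ne i (α.injective h')) with h | ⟨a, j, h⟩
    · exfalso
      have h' : α (v i) = t := congrArg Subtype.val h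
      exact D.v_ne_t i (α.injective (h'.trans hα.symm))
    · exact ⟨a, j, congrArg Subtype.val h⟩
  choose s f hf using h1
  have hinj : Function.Injective f := by
    intro i j hij
    by_contra hne
    -- `α (v i) = t^a α (v j)`, so `v i = t^a v j`
    have h2 : ∃ a : ZMod 2, (v i : centralizer ({t} : Set X)) = zp (zc t) a * v j := by
      refine ⟨s i + s j, ?_⟩
      apply Subtype.ext
      apply α.injective
      have h3 : α ((zp (zc t) (s i + s j) * v j : centralizer ({t} : Set X)) : X) =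
          ((zp (zc t) (s i + s j) : centralizer ({t} : Set X)) : X) * α (v j) := by
        show α (((zp (zc t) (s i + s j) : centralizer ({t} : Set X)) : X) * v j) = _
        rw [map_mul]
        congr 1
        rcases zmod2_cases (s i + s j) with h | h
        · rw [h, zp_zero]
          exact map_one α
        · rw [h, zp_one]
          exact hα
      rw [h3, hf i, hf j, hij]
      show ((zp (zc t) (s i) * v (f j) : centralizer ({t} : Set X)) : X) =
        ((zp (zc t) (s i + s j) * (zp (zc t) (s j) * v (f j)) : centralizer ({t} : Set X)) : X)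
      congr 1
      rw [← mul_assoc, ← zp_add (zc t) D.M.z_sq, add_assoc, CharTwo.add_self_eq_zero, add_zero]
    obtain ⟨a, ha⟩ := h2
    have := D.M.v_inj 0 a i j (by rw [zp_zero, one_mul]; exact ha)
    exact hne this.2
  exact ⟨Equiv.ofBijective f (Finite.injective_iff_bijective.1 hinj), s, hf⟩

/-- no subgroup of index 2 in a perfect group -/
theorem index_ne_two {C : Type*} [Group C] (h : commutator C = ⊤) (N : Subgroup C) : N.index ≠ 2 := by
  intro hN
  have hn : N.Normal := Subgroup.normal_of_index_eq_two hN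
  have h1 : commutator C ≤ N := by
    rw [_root_.commutator_def, Subgroup.commutator_le]
    intro a _ b _
    have h2 : ∀ x : C, x * x ∈ N := fun x => by
      have := Subgroup.sq_mem_of_index_two hN x
      rwa [pow_two] at this
    have e : ⁅a, b⁆ = (a * b) * (a * b) * (b⁻¹ * (a⁻¹ * a⁻¹) * b⁻¹⁻¹) * (b⁻¹ * b⁻¹) := by
      rw [commutatorElement_def]; group
    rw [e]
    exact mul_mem (mul_mem (h2 _) (hn.conj_mem _ (h2 _) _)) (h2 _)
  rw [h, top_le_iff] at h1
  rw [h1, index_top] at hN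
  omega

/-- An automorphism fixing `t` and even on the classes is inner. -/
theorem Dat.inner_of_even [Finite X] (D : Dat t u Q v ρ) (α : MulAut X) (hα : α t = t) (σ : Equiv.Perm (Fin 5))
    (s : Fin 5 → ZMod 2) (h : ∀ i, α (v i) = ((zp (zc t) (s i) * v (σ i) : centralizer ({t} : Set X)) : X))
    (hσ : Equiv.Perm.sign σ = 1) : ∃ k : X, α = MulAut.conj k := by
  obtain ⟨n, hn1, hn2⟩ := D.exists_n
  obtain ⟨c₀, hc₀⟩ := Cfsg.Agent.KFacts.QMinus.exists_c D.M σ hσ
  have hzpα : ∀ a : ZMod 2, α ((zp (zc t) a : centralizer ({t} : Set X)) : X) =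
      ((zp (zc t) a : centralizer ({t} : Set X)) : X) := by
    intro a
    rcases zmod2_cases a with h | h
    · rw [h, zp_zero]; exact map_one α
    · rw [h, zp_one]; exact hα
  have hzc0 : ∀ a : ZMod 2, (c₀ : X) * ((zp (zc t) a : centralizer ({t} : Set X)) : X) * (c₀ : X)⁻¹ =
      ((zp (zc t) a : centralizer ({t} : Set X)) : X) := by
    intro a
    have := zp_comm' D.M a c₀
    have h1 : c₀ * zp (zc t) a * c₀⁻¹ = zp (zc t) a := by rw [this, mul_inv_cancel_right]
    exact congrArg Subtype.val h1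
  have hc₀' : ∀ i, (c₀ : X) * (v i : X) * (c₀ : X)⁻¹ = v (σ i) := fun i => congrArg Subtype.val (hc₀ i)
  refine Cfsg.Agent.KFacts.OutQ.exists_conj (z := t) (z' := (v 0 : X)) (n := n) (τ := (v 1 : X)) D.t_ne D.tt
    (D.vv 0) (D.vt 0).symm (D.v_ne_t 0).symm hn1 hn2 (D.vt 1) ?_ D.cent_V ?_
    (Q.map (centralizer ({t} : Set X)).subtype) (Cfsg.Agent.KFacts.QMinus.sheet D.cardC D.M).ext
    (Cfsg.Agent.KFacts.QMinus.sheet D.cardC D.M).zR (Cfsg.Agent.KFacts.QMinus.sheet D.cardC D.M).comm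
    (Cfsg.Agent.KFacts.QMinus.sheet D.cardC D.M).norm (Cfsg.Agent.KFacts.QMinus.sheet D.cardC D.M).cen
    (index_ne_two D.perfect) α hα (c₀ := (c₀ : X)) (mem_cent.1 c₀.2) ?_
  · rw [D.v_anti (show (1 : Fin 5) ≠ 0 by decide)]
    group
  · apply D.gen (n := n) _ _ (v 0) (D.M.v_mem 0) hn1
    · rw [hn1]; exact D.v_ne_t 0
    · intro c hc
      exact subset_closure (Or.inl (mem_cent.1 hc))
    · exact subset_closure (Or.inr rfl)
  · rintro _ ⟨q, hq, rfl⟩
    have htz : ∀ a : ZMod 2, ((zp (zc t) a : centralizer ({t} : Set X)) : X) = 1 ∨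
        ((zp (zc t) a : centralizer ({t} : Set X)) : X) = t := by
      intro a
      rcases zmod2_cases a with h | h
      · left; rw [h, zp_zero]; rfl
      · right; rw [h, zp_one]
    have hcomm : ∀ (a : ZMod 2) (y : centralizer ({t} : Set X)),
        ((zp (zc t) a : centralizer ({t} : Set X)) : X) * y = y * ((zp (zc t) a : centralizer ({t} : Set X)) : X) :=
      fun a y => congrArg Subtype.val (zp_comm' D.M a y).symm
    -- it suffices to find the sign
    have key : ∀ (b : ZMod 2), α (q : X) = (((c₀ * q * c₀⁻¹) * zp (zc t) b : centralizer ({t} : Set X)) : X) →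
        α (q : X) = (c₀ : X) * q * (c₀ : X)⁻¹ ∨ α (q : X) = (c₀ : X) * q * (c₀ : X)⁻¹ * t := by
      intro b hb
      rw [hb]
      rcases htz b with h | h
      · left
        show (c₀ : X) * q * (c₀ : X)⁻¹ * ((zp (zc t) b : centralizer ({t} : Set X)) : X) = _
        rw [h, mul_one]
      · right
        show (c₀ : X) * q * (c₀ : X)⁻¹ * ((zp (zc t) b : centralizer ({t} : Set X)) : X) = _
        rw [h]
    have hvα : ∀ i, α (v i) = ((c₀ * v i * c₀⁻¹ * zp (zc t) (s i) : centralizer ({t} : Set X)) : X) := by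
      intro i
      rw [h i, hc₀ i, ← zp_comm' D.M]
    rcases D.M.cover q hq with ⟨a, h1⟩ | ⟨a, i, h1⟩ | ⟨a, i, j, _, h1⟩
    · apply key 0
      rw [h1]
      show α ((zp (zc t) a : centralizer ({t} : Set X)) : X) = _
      rw [hzpα, zp_zero, mul_one, zp_comm' D.M a c₀, mul_inv_cancel_right]
    · apply key (s i)
      rw [h1]
      show α (((zp (zc t) a : centralizer ({t} : Set X)) : X) * v i) = _
      rw [map_mul, hzpα, hvα i]
      show ((zp (zc t) a * (c₀ * v i * c₀⁻¹ * zp (zc t) (s i)) : centralizer ({t} : Set X)) : X) = _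
      congr 1
      calc zp (zc t) a * (c₀ * v i * c₀⁻¹ * zp (zc t) (s i)) = (zp (zc t) a * c₀) * v i * c₀⁻¹ * zp (zc t) (s i) := by
            group
        _ = (c₀ * zp (zc t) a) * v i * c₀⁻¹ * zp (zc t) (s i) := by rw [zp_comm' D.M a c₀]
        _ = _ := by group
    · apply key (s i + s j)
      rw [h1]
      show α (((zp (zc t) a : centralizer ({t} : Set X)) : X) * ((v i : X) * v j)) = _
      rw [map_mul, map_mul, hzpα, hvα i, hvα j]
      show ((zp (zc t) a * ((c₀ * v i * c₀⁻¹ * zp (zc t) (s i)) * (c₀ * v j * c₀⁻¹ * zp (zc t) (s j))) :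
        centralizer ({t} : Set X)) : X) = _
      congr 1
      calc zp (zc t) a * ((c₀ * v i * c₀⁻¹ * zp (zc t) (s i)) * (c₀ * v j * c₀⁻¹ * zp (zc t) (s j)))
          = (zp (zc t) a * c₀) * v i * c₀⁻¹ * (zp (zc t) (s i) * (c₀ * v j * c₀⁻¹)) * zp (zc t) (s j) := by group
        _ = (c₀ * zp (zc t) a) * v i * c₀⁻¹ * ((c₀ * v j * c₀⁻¹) * zp (zc t) (s i)) * zp (zc t) (s j) := by
            rw [zp_comm' D.M a c₀, zp_comm' D.M (s i) (c₀ * v j * c₀⁻¹)]
        _ = c₀ * (zp (zc t) a * (v i * v j)) * c₀⁻¹ * (zp (zc t) (s i) * zp (zc t) (s j)) := by group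
        _ = _ := by rw [← zp_add (zc t) D.M.z_sq]

theorem conj_mul_conj_inv (g : X) (α : MulAut X) : MulAut.conj (α g) = α * MulAut.conj g * α⁻¹ := by
  ext x
  show α g * x * (α g)⁻¹ = α (g * (α⁻¹ x) * g⁻¹)
  rw [map_mul, map_mul, map_inv]
  have : α (α⁻¹ x) = x := by
    show (α * α⁻¹) x = x
    rw [mul_inv_cancel]; rfl
  rw [this]

/-- the square of every automorphism is inner -/
theorem Dat.sq_inner [Finite X] (D : Dat t u Q v ρ) (α : MulAut X) : ∃ k : X, α * α = MulAut.conj k := by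
  obtain ⟨g, hg⟩ := isConj_iff.1 (D.isConj_aut α)
  -- `β = conj g⁻¹ α` fixes `t`
  set β : MulAut X := MulAut.conj g⁻¹ * α with hβ
  have hβt : β t = t := by
    show g⁻¹ * α t * g⁻¹⁻¹ = t
    rw [← hg]; group
  obtain ⟨σ, s, hs⟩ := D.exists_act β hβt
  have hββ : ∀ i, (β * β) (v i) = ((zp (zc t) (s i + s (σ i)) * v ((σ * σ) i) : centralizer ({t} : Set X)) : X) := by
    intro i
    show β (β (v i)) = _
    rw [hs i]
    show β (((zp (zc t) (s i) : centralizer ({t} : Set X)) : X) * v (σ i)) = _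
    rw [map_mul, hs (σ i)]
    have h1 : β ((zp (zc t) (s i) : centralizer ({t} : Set X)) : X) =
        ((zp (zc t) (s i) : centralizer ({t} : Set X)) : X) := by
      rcases zmod2_cases (s i) with h | h
      · rw [h, zp_zero]; exact map_one β
      · rw [h, zp_one]; exact hβt
    rw [h1]
    show ((zp (zc t) (s i) * (zp (zc t) (s (σ i)) * v (σ (σ i))) : centralizer ({t} : Set X)) : X) = _
    congr 1
    rw [← mul_assoc, ← zp_add (zc t) D.M.z_sq]
    rfl
  obtain ⟨k, hk⟩ := D.inner_of_even (β * β) (by show β (β t) = t; rw [hβt, hβt]) (σ * σ) _ hββ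
    (by rw [Equiv.Perm.sign_mul]; exact Int.units_mul_self _)
  -- `α = conj g β`
  have hα : α = MulAut.conj g * β := by
    rw [hβ, ← mul_assoc, ← map_mul, mul_inv_cancel, map_one, one_mul]
  refine ⟨g * (β g * k), ?_⟩
  rw [map_mul, map_mul, conj_mul_conj_inv, ← hk, hα]
  group

end basics

/-! ### Existence -/

section f0

open Cfsg.Agent.J2.Refl Cfsg.Agent.J2.Lattice Cfsg.Agent.J2.Centralizer

theorem f0_sq : Cfsg.Agent.J2.Centralizer.f0 * Cfsg.Agent.J2.Centralizer.f0 = 1 := by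
  apply Subtype.ext
  apply Equiv.ext
  intro w
  apply Subtype.ext
  show (((Cfsg.Agent.J2.Centralizer.f0 : Equiv.Perm Lam) ((Cfsg.Agent.J2.Centralizer.f0 : Equiv.Perm Lam) w) :
    Lam) : Vec) = w
  rw [f0_apply, f0_apply]
  simp

end f0

/-- **The Hall–Janko group has the data.** -/
theorem exists_dat : ∃ (t u : Cfsg.Spor.J2) (Q : Subgroup (centralizer ({t} : Set Cfsg.Spor.J2)))
    (v : Fin 5 → centralizer ({t} : Set Cfsg.Spor.J2)) (ρ : centralizer ({t} : Set Cfsg.Spor.J2) →* SP),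
    Dat t u Q v ρ := by
  have hfin : Finite Cfsg.Spor.J2 :=
    Nat.finite_of_card_ne_zero (by rw [Cfsg.Agent.S1619.result.2.2.2]; norm_num)
  have hsimp := Cfsg.Agent.S1620.result.1
  obtain ⟨a, b, hab⟩ := Cfsg.Agent.S1620.result.2
  have hna : ¬ IsMulCommutative Cfsg.Spor.J2 := fun h => hab (h.is_comm.comm a b)
  set f : Cfsg.Spor.twoJ2 := Cfsg.Agent.J2.Group.equivTwoJ2 Cfsg.Agent.J2.Centralizer.f0 with hf
  set t : Cfsg.Spor.J2 := QuotientGroup.mk f with ht
  obtain ⟨Q, hQn, hQ32, hQX, ⟨e⟩⟩ := Cfsg.Agent.J2.Centralizer.centralizer_structure f 1 (by rw [hf]; simp)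
  -- `t` has order 2
  have hcard : Nat.card (centralizer ({t} : Set Cfsg.Spor.J2)) = 1920 := by
    have h1 := card_eq_card_quotient_mul_card_subgroup Q
    rw [Nat.card_congr e.toEquiv, hQ32, Cfsg.Agent.KFacts.QMinus.card_A5] at h1
    exact h1
  have ht1 : t ≠ 1 := by
    intro h
    have h1 : centralizer ({t} : Set Cfsg.Spor.J2) = ⊤ := by
      rw [h, eq_top_iff]
      intro x _
      rw [mem_cent, mul_one, one_mul]
    rw [h1, card_top, Cfsg.Agent.S1619.result.2.2.2] at hcard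
    omega
  have htt : t * t = 1 := by
    have h1 : f * f = 1 := by
      rw [hf, ← map_mul]
      rw [f0_sq, map_one]
    rw [ht, ← QuotientGroup.mk_mul, h1, QuotientGroup.mk_one]
  have ho : orderOf t = 2 := orderOf_two htt ht1
  obtain ⟨g, hg1, hg2⟩ := Cfsg.Agent.StandardComponent.AltFinal.exists_conj hna ho
  have hC := Cfsg.Agent.J3Type.Reduce.centralizer_le t ho Q hQ32 hQX e g hg1 hg2
  have h60 : Nat.card (centralizer ({t} : Set Cfsg.Spor.J2) ⧸ Q) = 60 := by
    rw [Nat.card_congr e.toEquiv, Cfsg.Agent.KFacts.QMinus.card_A5]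
  obtain ⟨h2, hc, Q', v, ρ, M⟩ := Cfsg.Agent.J3Type.HasModelOf.hasModel t ho Q hQX hQ32 hC e
  rcases Cfsg.Agent.J2Type.A5Case.fus_or_one t ho Q hQX hQ32 hC h60 with ⟨u, F⟩ | h
  · exact ⟨t, u, Q', v, ρ, F, M⟩
  · exfalso
    have h1 := Cfsg.Agent.J3Type.CardOneClass.card_of_one_class h t ho Q hQ32 hQX e g hg1 hg2
    rw [Cfsg.Agent.S1619.result.2.2.2] at h1
    omega

end Cfsg.Agent.KFacts.J2.Basic
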