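import Cfsg.Agent.KFacts.J2.Basic

/-!
# Automorphisms of the Hall–Janko group (helper341)

For `D : Dat t u Q v ρ`:

* `mul_inner`: the product of two non-inner automorphisms is inner (`|Out| ≤ 2`);
* `exists_fixed`: an automorphism of order 2 fixes a conjugate of `t`;
* `two_fixed`: a non-inner automorphism `α` with `α² = 1` fixing `t` fixes two of the `v k`;
* `no_comm`: for a non-inner `α` with `α² = 1` no involution commutes with all the conjugates of `t` fixed by `α`;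
* `cent_t`: an automorphism centralising `C(t)` is `1` or the conjugation by `t`;
* `no_outer_u`: no non-inner `α` with `α² = 1` fixes `t`, `u` and the `v i` commuting with `u`.
-/

set_option autoImplicit false
set_option linter.style.haveILetI false

namespace Cfsg.Agent.KFacts.J2.Aut

open Subgroup Cfsg.Agent.J2Type.Model Cfsg.Agent.J2Type.SPFacts Cfsg.Agent.J2Type.CStruct
open Cfsg.Agent.J3Type.OneClass Cfsg.Agent.J2Type.Base Cfsg.Agent.KFacts.J2.Basic

variable {X : Type*} [Group X] {t u : X} {Q : Subgroup (centralizer ({t} : Set X))}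
  {v : Fin 5 → centralizer ({t} : Set X)} {ρ : centralizer ({t} : Set X) →* SP}

/-- `α` acts as the signed permutation `(σ, s)`. -/
def Act (α : MulAut X) (v : Fin 5 → centralizer ({t} : Set X)) (σ : Equiv.Perm (Fin 5)) (s : Fin 5 → ZMod 2) : Prop :=
  ∀ i, α (v i) = ((zp (zc t) (s i) * v (σ i) : centralizer ({t} : Set X)) : X)

theorem map_zp {α : MulAut X} (hα : α t = t) (a : ZMod 2) :
    α ((zp (zc t) a : centralizer ({t} : Set X)) : X) = ((zp (zc t) a : centralizer ({t} : Set X)) : X) := by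
  rcases zmod2_cases a with h | h
  · rw [h, zp_zero]; exact map_one α
  · rw [h, zp_one]; exact hα

theorem act_mul (D : Dat t u Q v ρ) {α β : MulAut X} (hα : α t = t) {σ τ : Equiv.Perm (Fin 5)}
    {s r : Fin 5 → ZMod 2} (h1 : Act α v σ s) (h2 : Act β v τ r) :
    Act (α * β) v (σ * τ) (fun i => r i + s (τ i)) := by
  intro i
  show α (β (v i)) = _
  rw [h2 i]
  show α (((zp (zc t) (r i) : centralizer ({t} : Set X)) : X) * v (τ i)) = _
  rw [map_mul, map_zp hα, h1 (τ i)]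
  show ((zp (zc t) (r i) * (zp (zc t) (s (τ i)) * v (σ (τ i))) : centralizer ({t} : Set X)) : X) = _
  rw [← mul_assoc, ← zp_add (zc t) D.M.z_sq]
  rfl

theorem act_inj (D : Dat t u Q v ρ) {α : MulAut X} {σ τ : Equiv.Perm (Fin 5)} {s r : Fin 5 → ZMod 2}
    (h1 : Act α v σ s) (h2 : Act α v τ r) : σ = τ ∧ s = r := by
  have key : ∀ i, s i = r i ∧ σ i = τ i := by
    intro i
    apply D.M.v_inj
    exact Subtype.ext ((h1 i).symm.trans (h2 i))
  exact ⟨Equiv.ext fun i => (key i).2, funext fun i => (key i).1⟩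

theorem act_conj (D : Dat t u Q v ρ) {x : X} (hx : x * t = t * x) :
    Act (MulAut.conj x) v (ρ ⟨x, mem_cent.2 hx⟩).σ (ρ ⟨x, mem_cent.2 hx⟩).s := by
  intro i
  exact congrArg Subtype.val (D.M.conj ⟨x, mem_cent.2 hx⟩ i)

theorem even_of_inner (D : Dat t u Q v ρ) {x : X} (hx : MulAut.conj x t = t) {σ : Equiv.Perm (Fin 5)}
    {s : Fin 5 → ZMod 2} (h : Act (MulAut.conj x) v σ s) : Equiv.Perm.sign σ = 1 := by
  have hx' : x * t = t * x := mul_inv_eq_iff_eq_mul.1 hx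
  rw [(act_inj D h (act_conj D hx')).1]
  exact ((D.M.range _).1 ⟨_, rfl⟩).1

theorem act_one (v : Fin 5 → centralizer ({t} : Set X)) : Act (1 : MulAut X) v 1 (fun _ => 0) := by
  intro i
  rw [zp_zero, one_mul]; rfl

/-- the sum of the signs -/
theorem sum_sign (D : Dat t u Q v ρ) {α : MulAut X} {σ : Equiv.Perm (Fin 5)} {s : Fin 5 → ZMod 2}
    (h : Act α v σ s) : ∑ i, s i = if Equiv.Perm.sign σ = 1 then 0 else 1 := by
  have e1 : α ((v 0 * v 1 * v 2 * v 3 * v 4 : centralizer ({t} : Set X)) : X) = 1 := by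
    rw [D.M.v_prod]; exact map_one α
  have e2 : α ((v 0 * v 1 * v 2 * v 3 * v 4 : centralizer ({t} : Set X)) : X) =
      (((zp (zc t) (s 0) * v (σ 0)) * (zp (zc t) (s 1) * v (σ 1)) * (zp (zc t) (s 2) * v (σ 2)) *
        (zp (zc t) (s 3) * v (σ 3)) * (zp (zc t) (s 4) * v (σ 4)) : centralizer ({t} : Set X)) : X) := by
    show α ((v 0 : X) * v 1 * v 2 * v 3 * v 4) = _
    rw [map_mul, map_mul, map_mul, map_mul, h 0, h 1, h 2, h 3, h 4]
    rfl
  have key : ∀ (a : ZMod 2) (b : centralizer ({t} : Set X)) (a' : ZMod 2) (b' : centralizer ({t} : Set X)),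
      (zp (zc t) a * b) * (zp (zc t) a' * b') = zp (zc t) (a + a') * (b * b') := by
    intro a b a' b'
    calc (zp (zc t) a * b) * (zp (zc t) a' * b') = zp (zc t) a * (b * zp (zc t) a') * b' := by group
      _ = zp (zc t) a * (zp (zc t) a' * b) * b' := by rw [zp_comm' D.M]
      _ = (zp (zc t) a * zp (zc t) a') * (b * b') := by group
      _ = _ := by rw [zp_add (zc t) D.M.z_sq]
  rw [e2] at e1
  have e3 : (zp (zc t) (s 0) * v (σ 0)) * (zp (zc t) (s 1) * v (σ 1)) * (zp (zc t) (s 2) * v (σ 2)) *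
        (zp (zc t) (s 3) * v (σ 3)) * (zp (zc t) (s 4) * v (σ 4)) = 1 := Subtype.ext e1
  rw [key, key, key, key, prod_perm D.M.z_sq D.M.z_comm v D.M.v_anti D.M.v_prod, ← zp_add (zc t) D.M.z_sq] at e3
  rw [Fin.sum_univ_five]
  rcases zmod2_cases (s 0 + s 1 + s 2 + s 3 + s 4 + if Equiv.Perm.sign σ = 1 then 0 else 1) with h1 | h1
  · have h2 := congrArg (fun t => t + (if Equiv.Perm.sign σ = 1 then (0 : ZMod 2) else 1)) h1
    simp only [add_assoc, CharTwo.add_self_eq_zero, add_zero, zero_add] at h2 ⊢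
    exact h2
  · rw [h1, zp_one] at e3
    exact absurd e3 D.M.z_ne

theorem odd_of_not_inner [Finite X] (D : Dat t u Q v ρ) {α : MulAut X} (hα : α t = t)
    (h : ∀ k, α ≠ MulAut.conj k) {σ : Equiv.Perm (Fin 5)} {s : Fin 5 → ZMod 2} (hs : Act α v σ s) :
    Equiv.Perm.sign σ = -1 := by
  rcases Int.units_eq_one_or (Equiv.Perm.sign σ) with h1 | h1
  · obtain ⟨k, hk⟩ := D.inner_of_even α hα σ s hs h1
    exact absurd hk (h k)
  · exact h1

/-- `α = conj g ∘ β` with `β t = t` -/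
theorem exists_fix (D : Dat t u Q v ρ) [Finite X] (α : MulAut X) :
    ∃ (g : X) (β : MulAut X), β t = t ∧ α = MulAut.conj g * β := by
  obtain ⟨g, hg⟩ := isConj_iff.1 (D.isConj_aut α)
  refine ⟨g, MulAut.conj g⁻¹ * α, ?_, ?_⟩
  · show g⁻¹ * α t * g⁻¹⁻¹ = t
    rw [← hg]; group
  · rw [← mul_assoc, ← map_mul, mul_inv_cancel, map_one, one_mul]

/-- `|Out| ≤ 2` -/
theorem mul_inner [Finite X] (D : Dat t u Q v ρ) {α β : MulAut X} (hα : ∀ k, α ≠ MulAut.conj k)
    (hβ : ∀ k, β ≠ MulAut.conj k) : ∃ k, α * β = MulAut.conj k := by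
  obtain ⟨g, α', hα't, rfl⟩ := exists_fix D α
  obtain ⟨h, β', hβ't, rfl⟩ := exists_fix D β
  obtain ⟨σ, s, hs⟩ := D.exists_act α' hα't
  obtain ⟨τ, r, hr⟩ := D.exists_act β' hβ't
  have h1 := odd_of_not_inner D hα't (fun k hk => hα (g * k) (by rw [hk, map_mul])) hs
  have h2 := odd_of_not_inner D hβ't (fun k hk => hβ (h * k) (by rw [hk, map_mul])) hr
  obtain ⟨k, hk⟩ := D.inner_of_even (α' * β') (by show α' (β' t) = t; rw [hβ't, hα't]) _ _
    (act_mul D hα't hs hr) (by rw [Equiv.Perm.sign_mul, h1, h2]; rfl)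
  refine ⟨g * (α' h * k), ?_⟩
  rw [map_mul, map_mul, conj_mul_conj_inv, ← hk]
  group

/-- an automorphism with square 1 fixes a conjugate of `t` -/
theorem exists_fixed [Finite X] (D : Dat t u Q v ρ) {β : MulAut X} (hββ : ∀ x, β (β x) = x) :
    ∃ s, IsConj t s ∧ β s = s := by
  classical
  haveI : Fintype {y : X // ∃ k : X, k * t * k⁻¹ = y} := Fintype.ofFinite _
  have hcard : Nat.card {y : X // ∃ k : X, k * t * k⁻¹ = y} = 315 := by
    have h1 := card_conj t
    have h2 : Nat.card {k : X // k * t = t * k} = 1920 := by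
      rw [← D.cardC]
      exact Nat.card_congr (Equiv.subtypeEquivRight fun k => mem_cent.symm)
    rw [h2, D.card] at h1
    omega
  have hcl : ∀ y : X, (∃ k : X, k * t * k⁻¹ = y) ↔ IsConj t y := fun y => isConj_iff.symm
  have hmap : ∀ y : X, (∃ k : X, k * t * k⁻¹ = y) → ∃ k : X, k * t * k⁻¹ = β y := by
    intro y hy
    rw [hcl] at hy ⊢
    exact (D.isConj_aut β).trans (isConj_map β hy)
  let σ : Equiv.Perm {y : X // ∃ k : X, k * t * k⁻¹ = y} :=
    { toFun := fun y => ⟨β y.1, hmap y.1 y.2⟩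
      invFun := fun y => ⟨β y.1, hmap y.1 y.2⟩
      left_inv := fun y => Subtype.ext (hββ y.1)
      right_inv := fun y => Subtype.ext (hββ y.1) }
  haveI : Fact (Nat.Prime 2) := ⟨Nat.prime_two⟩
  obtain ⟨a, ha⟩ := Equiv.Perm.exists_fixed_point_of_prime (p := 2) (n := 1)
    (by rw [← Nat.card_eq_fintype_card, hcard]; omega) (σ := σ) (by
      rw [pow_one, pow_two]
      ext y
      exact hββ y.1)
  exact ⟨a.1, (hcl _).1 a.2, congrArg Subtype.val ha⟩

/-- `exists_n` for every index -/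
theorem exists_n (D : Dat t u Q v ρ) (i : Fin 5) : ∃ n : X, n * t * n⁻¹ = v i ∧ n * v i * n⁻¹ = t * v i := by
  obtain ⟨n, h1, h2⟩ := D.exists_n
  obtain ⟨c, hc⟩ := trans_v D.M 0 0 0 i
  rw [zp_zero, one_mul, one_mul] at hc
  have hc' : (c : X) * v 0 * (c : X)⁻¹ = v i := congrArg Subtype.val hc
  have hct : (c : X) * t = t * c := mem_cent.1 c.2
  have hci : (c : X)⁻¹ * t * c = t := by rw [mul_assoc, ← hct]; group
  have hci' : (c : X)⁻¹ * v i * c = v 0 := by rw [← hc']; group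
  refine ⟨c * n * (c : X)⁻¹, ?_, ?_⟩
  · calc c * n * (c : X)⁻¹ * t * (c * n * (c : X)⁻¹)⁻¹ = c * n * ((c : X)⁻¹ * t * c) * n⁻¹ * (c : X)⁻¹ := by group
      _ = c * (n * t * n⁻¹) * (c : X)⁻¹ := by rw [hci]; group
      _ = v i := by rw [h1, hc']
  · calc c * n * (c : X)⁻¹ * v i * (c * n * (c : X)⁻¹)⁻¹ = c * n * ((c : X)⁻¹ * v i * c) * n⁻¹ * (c : X)⁻¹ := by group
      _ = c * (n * v 0 * n⁻¹) * (c : X)⁻¹ := by rw [hci']; group
      _ = (c * t) * v 0 * (c : X)⁻¹ := by rw [h2]; group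
      _ = t * (c * v 0 * (c : X)⁻¹) := by rw [hct]; group
      _ = t * v i := by rw [hc']

theorem conj_conj (g : X) (α : MulAut X) (x : X) :
    (MulAut.conj g * α * (MulAut.conj g)⁻¹) x = g * α (g⁻¹ * x * g) * g⁻¹ := by
  show g * α ((MulAut.conj g)⁻¹ x) * g⁻¹ = _
  rw [← map_inv, MulAut.conj_apply, inv_inv]

theorem not_inner_conj {α : MulAut X} (h : ∀ k, α ≠ MulAut.conj k) (g : X) :
    ∀ k, MulAut.conj g * α * (MulAut.conj g)⁻¹ ≠ MulAut.conj k := by
  intro k hk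
  apply h (g⁻¹ * k * g)
  rw [map_mul, map_mul, ← hk, map_inv]
  group

theorem even_aux : ∀ (σ : Equiv.Perm (Fin 5)) (k : Fin 5), σ * σ = 1 → σ k = k → (∀ i, i ≠ k → σ i ≠ i) →
    Equiv.Perm.sign σ = 1 := by
  decide +kernel

/-- no non-inner automorphism fixes `t` and `v k` and has square the conjugation by `v k` -/
theorem no_root [Finite X] (D : Dat t u Q v ρ) {δ : MulAut X} (hδ : ∀ k, δ ≠ MulAut.conj k) (hδt : δ t = t)
    (k : Fin 5) (hδk : δ (v k) = v k) (hsq : ∀ x, δ (δ x) = v k * x * (v k : X)⁻¹) : False := by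
  obtain ⟨σ, s, hs⟩ := D.exists_act δ hδt
  have hodd := odd_of_not_inner D hδt hδ hs
  have h1 := act_mul D hδt hs hs
  have h2 : δ * δ = MulAut.conj (v k : X) := by
    ext x
    exact hsq x
  rw [h2] at h1
  have h3 := act_inj D h1 (act_conj D (D.vt k))
  have h4 : ρ (⟨(v k : X), mem_cent.2 (D.vt k)⟩ : centralizer ({t} : Set X)) =
      ⟨1, fun j => if j = k then 0 else 1⟩ := rho_v D.M k
  rw [h4] at h3
  have hk : σ k = k := by
    have h5 := hs k
    rw [hδk] at h5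
    have h6 := D.M.v_inj 0 (s k) k (σ k) (by rw [zp_zero, one_mul]; exact Subtype.ext h5)
    exact h6.2.symm
  have := even_aux σ k h3.1 hk (fun i hi h => by
    have h5 := congrFun h3.2 i
    change s i + s (σ i) = if i = k then 0 else 1 at h5
    rw [h, if_neg hi, CharTwo.add_self_eq_zero] at h5
    exact zero_ne_one h5)
  rw [this] at hodd
  exact absurd hodd (by decide)

theorem perm_aux : ∀ σ : Equiv.Perm (Fin 5), Equiv.Perm.sign σ = -1 → σ * σ = 1 →
    ∃ i j a b d : Fin 5, i ≠ j ∧ σ i = j ∧ σ j = i ∧ a ≠ b ∧ b ≠ d ∧ a ≠ d ∧ σ a = a ∧ σ b = b ∧ σ d = d ∧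
      i ≠ a ∧ i ≠ b ∧ i ≠ d ∧ j ≠ a ∧ j ≠ b ∧ j ≠ d := by
  decide +kernel

theorem univ_aux : ∀ i j a b d : Fin 5, (i ≠ j ∧ a ≠ b ∧ b ≠ d ∧ a ≠ d ∧ i ≠ a ∧ i ≠ b ∧ i ≠ d ∧ j ≠ a ∧ j ≠ b ∧
    j ≠ d) → (Finset.univ : Finset (Fin 5)) = {i, j, a, b, d} := by
  decide +kernel

theorem three_aux : ∀ x y z : ZMod 2, x + y + z = 1 →
    (x = 1 ∧ y = 1 ∧ z = 1) ∨ (x = 0 ∧ y = 0) ∨ (y = 0 ∧ z = 0) ∨ (x = 0 ∧ z = 0) := by
  decide

theorem sum_aux (i j a b d : Fin 5) (hij : i ≠ j) (hab : a ≠ b) (hbd : b ≠ d) (had : a ≠ d) (hia : i ≠ a)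
    (hib : i ≠ b) (hid : i ≠ d) (hja : j ≠ a) (hjb : j ≠ b) (hjd : j ≠ d) (s : Fin 5 → ZMod 2)
    (h : s i + s j = 0) (hs : ∑ m, s m = 1) :
    (s a = 1 ∧ s b = 1 ∧ s d = 1) ∨ (s a = 0 ∧ s b = 0) ∨ (s b = 0 ∧ s d = 0) ∨ (s a = 0 ∧ s d = 0) := by
  apply three_aux
  rw [univ_aux i j a b d ⟨hij, hab, hbd, had, hia, hib, hid, hja, hjb, hjd⟩, Finset.sum_insert (by simp [*]),
    Finset.sum_insert (by simp [*]), Finset.sum_insert (by simp [*]), Finset.sum_insert (by simp [*]),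
    Finset.sum_singleton, ← add_assoc, h, zero_add, ← add_assoc] at hs
  exact hs

/-- **A non-inner automorphism with square 1 fixing `t` fixes two of the `v k`.** -/
theorem two_fixed [Finite X] (D : Dat t u Q v ρ) {α : MulAut X} (hα : ∀ k, α ≠ MulAut.conj k) (hαt : α t = t)
    (hαα : ∀ x, α (α x) = x) : ∃ k l : Fin 5, k ≠ l ∧ α (v k) = v k ∧ α (v l) = v l := by
  obtain ⟨σ, s, hs⟩ := D.exists_act α hαt
  have hodd := odd_of_not_inner D hαt hα hs
  have h1 := act_mul D hαt hs hs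
  have h2 : α * α = 1 := by
    ext x
    exact hαα x
  rw [h2] at h1
  obtain ⟨hσσ, hss⟩ := act_inj D h1 (act_one v)
  have hsum := sum_sign D hs
  rw [hodd, if_neg (by decide)] at hsum
  obtain ⟨i, j, a, b, d, hij, hi, hj, hab, hbd, had, ha, hb, hd, hia, hib, hid, hja, hjb, hjd⟩ :=
    perm_aux σ hodd hσσ
  have hsij : s i + s j = 0 := by
    have h5 := congrFun hss i
    change s i + s (σ i) = 0 at h5
    rwa [hi] at h5
  have hfix : ∀ m, σ m = m → s m = 0 → α (v m) = v m := by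
    intro m h5 h6
    rw [hs m, h5, h6, zp_zero, one_mul]
  rcases sum_aux i j a b d hij hab hbd had hia hib hid hja hjb hjd s hsij hsum with h | h | h | h
  · exfalso
    obtain ⟨ha1, hb1, -⟩ := h
    -- `δ = conj (v b) α`, `δ² = conj t`, `δ (v a) = v a`
    have hαa : α (v a) = t * v a := by rw [hs a, ha, ha1, zp_one]; rfl
    have hαb : α (v b) = t * v b := by rw [hs b, hb, hb1, zp_one]; rfl
    have hbi : (v b : X)⁻¹ = v b := inv_eq_of_mul_eq_one_left (D.vv b)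
    have hti : t⁻¹ = t := inv_eq_of_mul_eq_one_left D.tt
    set δ : MulAut X := MulAut.conj (v b : X) * α with hδ
    have hδx : ∀ x, δ x = v b * α x * (v b : X)⁻¹ := fun _ => rfl
    have hδt : δ t = t := by rw [hδx, hαt, D.vt b]; group
    have hδa : δ (v a) = v a := by
      rw [hδx, hαa]
      calc (v b : X) * (t * v a) * (v b : X)⁻¹ = (v b * t) * v a * (v b : X)⁻¹ := by group
        _ = t * (v b * v a) * (v b : X)⁻¹ := by rw [D.vt b]; group
        _ = (t * t) * v a := by rw [D.v_anti hab.symm]; group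
        _ = v a := by rw [D.tt, one_mul]
    have hδδ : ∀ x, δ (δ x) = t * x * t⁻¹ := by
      intro x
      rw [hδx, hδx, map_mul, map_mul, map_inv, hαα, hαb]
      calc (v b : X) * (t * v b * x * (t * v b)⁻¹) * (v b : X)⁻¹
          = (v b * t) * v b * x * ((v b * t) * v b)⁻¹ := by group
        _ = (t * v b) * v b * x * ((t * v b) * v b)⁻¹ := by rw [D.vt b]
        _ = t * (v b * v b) * x * (t * (v b * v b))⁻¹ := by group
        _ = _ := by rw [D.vv, mul_one]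
    obtain ⟨n, hn1, hn2⟩ := exists_n D a
    have hn1' : n⁻¹ * v a * n = t := by rw [← hn1]; group
    have hn2' : n⁻¹ * (t * v a) * n = v a := by rw [← hn2]; group
    have hn3 : n⁻¹ * t * n = t * v a := by
      calc n⁻¹ * t * n = (n⁻¹ * (t * v a) * n) * (n⁻¹ * v a * n)⁻¹ := by group
        _ = v a * t := by rw [hn2', hn1', hti]
        _ = t * v a := D.vt a
    refine no_root D (δ := MulAut.conj n * δ * (MulAut.conj n)⁻¹) (not_inner_conj (fun k hk => ?_) n) ?_ a ?_ ?_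
    · apply hα ((v b : X)⁻¹ * k)
      rw [map_mul, ← hk, hδ, map_inv]; group
    · rw [conj_conj, hn3, map_mul, hδt, hδa, ← hn3]; group
    · rw [conj_conj, hn1', hδt, hn1]
    · intro x
      rw [conj_conj, conj_conj]
      have h5 : n⁻¹ * (n * δ (n⁻¹ * x * n) * n⁻¹) * n = δ (n⁻¹ * x * n) := by group
      rw [h5, hδδ, ← hn1]; group
  · exact ⟨a, b, hab, hfix a ha h.1, hfix b hb h.2⟩
  · exact ⟨b, d, hbd, hfix b hb h.1, hfix d hd h.2⟩
  · exact ⟨a, d, had, hfix a ha h.1, hfix d hd h.2⟩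

theorem two_aux : ∀ (σ : Equiv.Perm (Fin 5)) (k l : Fin 5), Equiv.Perm.sign σ = 1 → σ * σ = 1 → k ≠ l → σ k = k →
    σ l = l → σ = 1 := by
  decide +kernel

/-- an involution commuting with `t`, `v k`, `v l` is `t` -/
theorem eq_t (D : Dat t u Q v ρ) {b : X} (hbb : b * b = 1) (hb1 : b ≠ 1) (hbt : b * t = t * b) {k l : Fin 5}
    (hkl : k ≠ l) (hk : b * v k = v k * b) (hl : b * v l = v l * b) : b = t := by
  set w : centralizer ({t} : Set X) := ⟨b, mem_cent.2 hbt⟩ with hw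
  have hfix : ∀ m, b * v m = v m * b → (ρ w).σ m = m := by
    intro m hm
    have h1 : w * v m * w⁻¹ = zp (zc t) 0 * v m := by
      rw [zp_zero, one_mul]
      apply Subtype.ext
      show b * v m * b⁻¹ = v m
      rw [hm]; group
    rw [D.M.conj] at h1
    exact (D.M.v_inj _ _ _ _ h1).2
  have hww : w * w = 1 := Subtype.ext hbb
  have h2 : ρ w * ρ w = 1 := by rw [← map_mul, hww, map_one]
  have h3 : (ρ w).σ * (ρ w).σ = 1 := by rw [← mul_σ, h2]; rfl
  have h4 := two_aux (ρ w).σ k l ((D.M.range _).1 ⟨w, rfl⟩).1 h3 hkl (hfix k hk) (hfix l hl)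
  have h5 : w ∈ Q := (D.M.mem_Q w).2 h4
  rcases invol_Q D.M h5 hww (fun h => hb1 (congrArg Subtype.val h)) with h | ⟨a, i, h⟩
  · exact congrArg Subtype.val h
  · exfalso
    have h6 : ∀ m, b * v m = v m * b → i = m := by
      intro m hm
      rw [← zv_comm_iff D.M a 0 i m, ← h, zp_zero, one_mul]
      exact Subtype.ext hm
    exact hkl ((h6 k hk).symm.trans (h6 l hl))

/-- **No involution commutes with all the conjugates of `t` fixed by a non-inner automorphism of order 2.** -/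
theorem no_comm [Finite X] (D : Dat t u Q v ρ) {α : MulAut X} (hα : ∀ k, α ≠ MulAut.conj k)
    (hαα : ∀ x, α (α x) = x) {b : X} (hbb : b * b = 1) (hb1 : b ≠ 1)
    (hb : ∀ y, IsConj t y → α y = y → b * y = y * b) : False := by
  -- `b` is equal to each fixed conjugate of `t`
  have key : ∀ x, IsConj t x → α x = x → b = x ∧ ∃ y, IsConj t y ∧ α y = y ∧ y ≠ x := by
    intro x hx hαx
    obtain ⟨g, hg⟩ := isConj_iff.1 hx
    set β : MulAut X := MulAut.conj g⁻¹ * α * (MulAut.conj g⁻¹)⁻¹ with hβ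
    have hβx : ∀ y, β y = g⁻¹ * α (g * y * g⁻¹) * g := by
      intro y
      rw [hβ, conj_conj, inv_inv]
    have hβt : β t = t := by rw [hβx, hg, hαx, ← hg]; group
    have hββ : ∀ y, β (β y) = y := by
      intro y
      rw [hβx, hβx]
      have h5 : g * (g⁻¹ * α (g * y * g⁻¹) * g) * g⁻¹ = α (g * y * g⁻¹) := by group
      rw [h5, hαα]; group
    obtain ⟨k, l, hkl, hk, hl⟩ := two_fixed D (not_inner_conj hα g⁻¹) hβt hββ
    have hback : ∀ y, IsConj t y → β y = y → IsConj t (g * y * g⁻¹) ∧ α (g * y * g⁻¹) = g * y * g⁻¹ := by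
      intro y hy hβy
      refine ⟨hy.trans (isConj_iff.2 ⟨g, rfl⟩), ?_⟩
      rw [hβx] at hβy
      calc α (g * y * g⁻¹) = g * (g⁻¹ * α (g * y * g⁻¹) * g) * g⁻¹ := by group
        _ = _ := by rw [hβy]
    have hcomm : ∀ y, IsConj t y → β y = y → (g⁻¹ * b * g) * y = y * (g⁻¹ * b * g) := by
      intro y hy hβy
      obtain ⟨h5, h6⟩ := hback y hy hβy
      have h7 := hb _ h5 h6
      calc (g⁻¹ * b * g) * y = g⁻¹ * (b * (g * y * g⁻¹)) * g := by group
        _ = g⁻¹ * (g * y * g⁻¹ * b) * g := by rw [h7]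
        _ = _ := by group
    have h8 : g⁻¹ * b * g = t := by
      refine eq_t D ?_ ?_ (hcomm t (IsConj.refl t) hβt) hkl (hcomm _ (D.isConj_v k) hk) (hcomm _ (D.isConj_v l) hl)
      · calc g⁻¹ * b * g * (g⁻¹ * b * g) = g⁻¹ * (b * b) * g := by group
          _ = 1 := by rw [hbb]; group
      · intro h
        apply hb1
        calc b = g * (g⁻¹ * b * g) * g⁻¹ := by group
          _ = 1 := by rw [h]; group
    refine ⟨?_, g * v k * g⁻¹, (hback _ (D.isConj_v k) hk).1, (hback _ (D.isConj_v k) hk).2, ?_⟩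
    · rw [← hg, ← h8]; group
    · intro h
      apply D.v_ne_t k
      calc (v k : X) = g⁻¹ * (g * v k * g⁻¹) * g := by group
        _ = t := by rw [h, ← hg]; group
  obtain ⟨x, hx, hαx⟩ := exists_fixed D hαα
  obtain ⟨h1, y, hy, hαy, hyx⟩ := key x hx hαx
  exact hyx ((key y hy hαy).1.symm.trans h1)

/-- an automorphism centralising `C(t)` -/
theorem cent_t [Finite X] (D : Dat t u Q v ρ) {α : MulAut X} (hα : ∀ c : X, c * t = t * c → α c = c) :
    α = 1 ∨ α = MulAut.conj t := by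
  obtain ⟨n, hn1, hn2⟩ := D.exists_n
  refine Cfsg.Agent.KFacts.CentTwo.eq_one_or_conj (z := t) (z' := (v 0 : X)) (n := n) (τ := (v 1 : X)) D.tt
    (D.vv 0) (D.vt 0).symm (D.v_ne_t 0).symm hn1 hn2 (D.vt 1) ?_ D.cent_V ?_ α hα
  · rw [D.v_anti (show (1 : Fin 5) ≠ 0 by decide)]
    group
  · apply D.gen (n := n) _ _ (v 0) (D.M.v_mem 0) hn1
    · rw [hn1]; exact D.v_ne_t 0
    · intro c hc
      exact subset_closure (Or.inl (mem_cent.1 hc))
    · exact subset_closure (Or.inr rfl)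

set_option synthInstance.maxHeartbeats 1000000 in
set_option synthInstance.maxSize 2000 in
theorem outer_aux : ∀ τ σ : Equiv.Perm (Fin 5), (Equiv.Perm.sign τ = 1 ∧ τ * τ = 1 ∧ τ ≠ 1 ∧
    Equiv.Perm.sign σ = -1 ∧ σ * σ = 1 ∧ σ * τ = τ * σ ∧ (∀ i, τ i = i → σ i = i)) →
    ∀ r : Fin 5 → ZMod 2, (∀ i, r i + r (τ i) = 0) → ∀ s : Fin 5 → ZMod 2, (∑ i, s i = 1 ∧
    (∀ i, s i + s (σ i) = 0) ∧ (∀ i, r i + s (τ i) = s i + r (σ i)) ∧ (∀ i, τ i = i → s i = 0)) → False := by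
  decide +kernel

theorem zero_aux : ∀ τ : Equiv.Perm (Fin 5), (Equiv.Perm.sign τ = 1 ∧ τ * τ = 1 ∧ τ ≠ 1) →
    ∀ r : Fin 5 → ZMod 2, (∑ i, r i = 0 ∧ ∀ i, r i + r (τ i) = 0) → ∀ i, τ i = i → r i = 0 := by
  decide +kernel

/-- no non-inner automorphism with square 1 fixes `t`, `u` and the `v i` commuting with `u` -/
theorem no_outer_u [Finite X] (D : Dat t u Q v ρ) {α : MulAut X} (hα : ∀ k, α ≠ MulAut.conj k)
    (hαα : ∀ x, α (α x) = x) (hαt : α t = t) (hαu : α u = u)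
    (hαv : ∀ i, (v i : X) * u = u * v i → α (v i) = v i) : False := by
  obtain ⟨σ, s, hs⟩ := D.exists_act α hαt
  have hodd := odd_of_not_inner D hαt hα hs
  have h1 := act_mul D hαt hs hs
  have h2 : α * α = 1 := by
    ext x
    exact hαα x
  rw [h2] at h1
  obtain ⟨hσσ, hss⟩ := act_inj D h1 (act_one v)
  have hsum := sum_sign D hs
  rw [hodd, if_neg (by decide)] at hsum
  set w : centralizer ({t} : Set X) := ⟨u, D.u_mem⟩ with hw
  have hww : w * w = 1 := Subtype.ext D.uu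
  have h3 : ρ w * ρ w = 1 := by rw [← map_mul, hww, map_one]
  have hτ : (ρ w).σ * (ρ w).σ = 1 := by rw [← mul_σ, h3]; rfl
  have hr : ∀ i, (ρ w).s i + (ρ w).s ((ρ w).σ i) = 0 := fun i => by
    have := congrArg (fun g : SP => g.s i) h3
    exact this
  obtain ⟨heven, hrsum⟩ := (D.M.range (ρ w)).1 ⟨w, rfl⟩
  have hne : (ρ w).σ ≠ 1 := fun h => D.u_notMem ((D.M.mem_Q w).2 h)
  -- `α` commutes with the conjugation by `u`
  have hcu := act_conj D (x := u) D.F.comm.symm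
  have e1 := act_mul D hαt hs hcu
  have e2 := act_mul D (α := MulAut.conj u) (β := α) (by
    show u * t * u⁻¹ = t
    rw [D.F.comm.symm]; group) hcu hs
  have e3 : α * MulAut.conj u = MulAut.conj u * α := by
    ext x
    show α (u * x * u⁻¹) = u * α x * u⁻¹
    rw [map_mul, map_mul, map_inv, hαu]
  rw [e3] at e1
  obtain ⟨e4, e5⟩ := act_inj D e1 e2
  have hfixv : ∀ i, (ρ w).σ i = i → σ i = i ∧ s i = 0 := by
    intro i hi
    have h4 : (ρ w).s i = 0 := zero_aux _ ⟨heven, hτ, hne⟩ _ ⟨hrsum, hr⟩ i hi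
    have h5 : w * v i * w⁻¹ = v i := by rw [D.M.conj, hi, h4, zp_zero, one_mul]
    have h6 : u * (v i : X) * u⁻¹ = v i := congrArg Subtype.val h5
    have h7 : α (v i) = v i := hαv i (mul_inv_eq_iff_eq_mul.1 h6).symm
    rw [hs i] at h7
    have h8 := D.M.v_inj (s i) 0 (σ i) i (by rw [zp_zero, one_mul]; exact Subtype.ext h7)
    exact ⟨h8.2, h8.1⟩
  exact outer_aux (ρ w).σ σ ⟨heven, hτ, hne, hodd, hσσ, e4, fun i hi => (hfixv i hi).1⟩ (ρ w).s hr s
    ⟨hsum, fun i => congrFun hss i, fun i => congrFun e5 i, fun i hi => (hfixv i hi).2⟩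

end Cfsg.Agent.KFacts.J2.Aut
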